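import Cfsg.Agent.H823.O8S.Main
import Cfsg.Agent.H108.O8.Symp5

/-!
# S3938, `PΩ⁺₈(5)`: the monomial and the symplectic type overgroups of `x`, `t` (helper118)
-/

set_option autoImplicit false
set_option linter.unusedSectionVars false

namespace Cfsg.Agent.H118.O8S

open Module QuadraticMap Cfsg Cfsg.Geo Cfsg.Agent.LieClassical.OrthCore Cfsg.Agent.H955 Cfsg.Agent.H954.TSing
open Cfsg.Agent.LieClassical.OmegaReindex Cfsg.Agent.H823.O8S
open Cfsg.Agent.H951 (fx cm Inv Irr)
open Cfsg.Agent.H884.El
open Cfsg.Agent.H708.O8 (I8 T8)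
open scoped MatrixGroups Matrix

variable {F : Type} [Field F] [Fintype F] {x t z : GL I8 F} {J J' : Module.End F (I8 → F)} {c d : F}

/-- **the monomial class**, `q = 5` -/
theorem mono5 (hF : Nat.card F = 5) (b : Base x t z 7) (hx : orderOf x = 7) {H : Subgroup (GL I8 F)} (hxH : x ∈ H)
    (htH : t ∈ H) (hc : x * t = t * x) (h : Mono H) : False := by
  obtain ⟨D, hD, hHD⟩ := h
  have hd := hD.decomp.decomp
  have hinj : Function.Injective D := by
    intro i j hij
    by_contra hne
    have h1 := hd.indep.pairwiseDisjoint hne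
    rw [Function.onFun, hij, disjoint_self] at h1
    have h2 := hd.finrank_eq j
    rw [h1, finrank_bot] at h2
    omega
  obtain ⟨σ, hσ⟩ := hHD hxH
  obtain ⟨τ, hτ⟩ := hHD htH
  have hστ : ∀ i, σ (τ i) = τ (σ i) := by
    intro i
    apply hinj
    rw [← hσ, ← hτ, ← hτ, ← hσ, ← Submodule.map_comp, ← Submodule.map_comp, ← Matrix.toLin'_mul,
      ← Matrix.toLin'_mul, ← Units.val_mul, ← Units.val_mul, hc]
  have hmap : ∀ j : ℕ, ∀ i, (D i).map (Matrix.toLin' ((x ^ j : GL I8 F) : Matrix I8 I8 F)) = D ((σ ^ j) i) := by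
    intro j
    induction j with
    | zero => intro i; simp
    | succ j ih =>
      intro i
      rw [pow_succ', Units.val_mul, Matrix.toLin'_mul, Submodule.map_comp, ih, hσ, pow_succ', Equiv.Perm.mul_apply]
  have hσ7 : σ ^ 7 = 1 := by
    apply Equiv.ext
    intro i
    apply hinj
    rw [← hmap, ← hx, pow_orderOf_eq_one, Units.val_one, Matrix.toLin'_one, Submodule.map_id]
    rfl
  -- `x` is trivial on the invariant lines
  have hone : ∀ i, σ i = i → ∀ v ∈ D i, lin x v = v := by
    intro i hi v hv
    by_cases hv0 : v = 0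
    · rw [hv0, map_zero]
    have h2 : lin x v ∈ D i := by
      have h1 := hσ i
      rw [hi] at h1
      rw [← h1]
      exact ⟨v, hv, rfl⟩
    obtain ⟨e, he⟩ := (finrank_eq_one_iff_of_nonzero' (⟨v, hv⟩ : D i) (fun h0 => hv0 (congrArg Subtype.val h0))).1
      (hd.finrank_eq i) ⟨lin x v, h2⟩
    have he' : lin x v = e • v := (congrArg Subtype.val he).symm
    have hpow : ∀ n : ℕ, (lin x ^ n) v = e ^ n • v := by
      intro n
      induction n with
      | zero => simp
      | succ n ih => rw [pow_succ', Module.End.mul_apply, ih, map_smul, he', smul_smul, pow_succ]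
    have he7 : e ^ 7 = 1 := by
      have h5 := hpow 7
      rw [← lin_pow, ← hx, pow_orderOf_eq_one, lin_one, Module.End.one_apply, hx] at h5
      have h6 : (e ^ 7 - 1) • v = 0 := by rw [sub_smul, one_smul, ← h5, sub_self]
      exact sub_eq_zero.1 ((smul_eq_zero.1 h6).resolve_right hv0)
    have he0 : e ≠ 0 := by
      rintro rfl
      norm_num at he7
    have he4 : e ^ 4 = 1 := by
      have h6 := FiniteField.pow_card_sub_one_eq_one e he0
      rwa [← Nat.card_eq_fintype_card, hF] at h6
    have he1 : e = 1 := by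
      have h6 : e ^ 8 = 1 := by rw [show 8 = 4 * 2 by norm_num, pow_mul, he4, one_pow]
      rwa [pow_succ, he7, one_mul] at h6
    rw [he', he1, one_smul]
  -- fixed points of `σ`
  have hfix : ∃ i₀, σ i₀ = i₀ ∧ ∀ i, σ i = i → i = i₀ := by
    have : Fact (Nat.Prime 7) := ⟨by norm_num⟩
    classical
    let f : Function.End (Fin 8) := (σ : Fin 8 → Fin 8)
    have hf : f ^ 7 ^ 1 = 1 := by
      have h1 : ∀ n : ℕ, f ^ n = ((σ ^ n : Equiv.Perm (Fin 8)) : Fin 8 → Fin 8) := by
        intro n
        induction n with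
        | zero => rfl
        | succ n ih =>
          rw [pow_succ, ih, pow_succ]
          rfl
      rw [h1, pow_one, hσ7]
      rfl
    have h1 := Equiv.Perm.card_fixedPoints_modEq (f := f) (p := 7) (n := 1) hf
    rw [Fintype.card_fin] at h1
    have h2 : Fintype.card (Function.fixedPoints f) ≤ 8 := by
      have := Fintype.card_subtype_le (fun i : Fin 8 => Function.IsFixedPt f i)
      rw [Fintype.card_fin] at this
      exact this
    have h3 : Fintype.card (Function.fixedPoints f) = 1 ∨ Fintype.card (Function.fixedPoints f) = 8 := by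
      have h4 : 8 % 7 = Fintype.card (Function.fixedPoints f) % 7 := h1
      omega
    rcases h3 with h3 | h3
    · rw [Fintype.card_eq_one_iff] at h3
      obtain ⟨⟨i₀, hi₀⟩, hu⟩ := h3
      exact ⟨i₀, hi₀, fun i hi => congrArg Subtype.val (hu ⟨i, hi⟩)⟩
    · exfalso
      have h4 : ∀ i, σ i = i := by
        have h5 : Function.fixedPoints f = Set.univ := by
          apply Set.eq_of_subset_of_ncard_le (Set.subset_univ _)
          rw [Set.ncard_univ, Nat.card_eq_fintype_card, Fintype.card_fin, ← Nat.card_coe_set_eq,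
            Nat.card_eq_fintype_card, h3]
        intro i
        have h6 : i ∈ Function.fixedPoints f := by rw [h5]; trivial
        exact h6
      have h5 : x = 1 := by
        apply lin_injective
        rw [lin_one]
        refine LinearMap.ext fun v => ?_
        have hv : v ∈ (⨆ i, D i) := by rw [hd.iSup_eq_top]; exact Submodule.mem_top
        refine Submodule.iSup_induction D (motive := fun v => lin x v = (1 : Module.End F (I8 → F)) v) hv ?_ ?_ ?_
        · intro i v hv
          exact hone i (h4 i) v hv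
        · rw [map_zero, map_zero]
        · intro u v hu hv
          rw [map_add, hu, hv, map_add]
      rw [h5, orderOf_one] at hx
      omega
  obtain ⟨i₀, hi₀, hu⟩ := hfix
  have hti : τ i₀ = i₀ := hu _ (by rw [hστ, hi₀])
  have hle : D i₀ ≤ fx (lin x) := fun v hv => H951.mem_fx.2 (hone i₀ hi₀ v hv)
  have hinv : ∀ v ∈ D i₀, lin t v ∈ D i₀ := by
    intro v hv
    have h1 := hτ i₀
    rw [hti] at h1
    rw [← h1]
    exact ⟨v, hv, rfl⟩
  have h1 := hd.finrank_eq i₀
  rcases b.irr2.2.2 (D i₀) hle hinv with h2 | h2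
  · rw [h2, finrank_bot] at h1
    omega
  · rw [h2, b.dim2] at h1
    omega

/-- **groups of symplectic type**, `q = 5` -/
theorem symp5 (hF : Nat.card F = 5) (b : Base x t z 7) (ht : orderOf t = 3) {H : Subgroup (GL I8 F)}
    (htH : t ∈ H) (h : SympT H) : False := by
  obtain ⟨R, hRH, hHR, habs, hR, -⟩ := h
  refine Cfsg.Agent.H108.O8.no_symp5 (m := 0) hF habs hR (hHR htH) ht ?_ ?_
  · rw [b.tW, b.dim2]
  · rw [b.tV, b.dim6]

end Cfsg.Agent.H118.O8S
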