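import Cfsg.Agent.H118.O8S.Psl2
import Cfsg.Agent.H823.O8S.Base

/-!
# S3938, `PΩ⁺₈(q)`, (O5) with the weak hypothesis `RW`, which includes `q = 5` (helper118)
-/

set_option autoImplicit false

namespace Cfsg.Agent.H118.O8S

open Matrix Cfsg.Agent.H823.O8S
open scoped MatrixGroups
open Cfsg.Agent.Ree.PSLTori (tr tr_mul_comm tr_conj)
open Cfsg.Agent.ClassicalGeometry.AutPSL.Root (pr pr_surjective)
open Cfsg.Agent.ClassicalGeometry.AutPSL.Auto (cj fld lift lift_pr coe_cj coe_fld_apply)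
open Cfsg.Agent.ClassicalGeometry.AutPSL.Main (surj_two)

theorem three_le_mt {q : ℕ} (h4 : 4 ≤ q) : 3 ≤ H823.O8S.mt q := by
  have hg : Nat.gcd 2 (q - 1) ≤ 2 := Nat.gcd_le_left _ (by norm_num)
  have hg0 : 0 < Nat.gcd 2 (q - 1) := Nat.gcd_pos_of_pos_left _ (by norm_num)
  rcases Nat.lt_or_ge q 5 with h7 | h7
  · obtain rfl : q = 4 := by omega
    decide
  · unfold H823.O8S.mt
    rw [Nat.le_div_iff_mul_le hg0]
    omega

section main

variable {K : Type} [Field K] [Fintype K] {p a r k : ℕ} {R : Type} [Group R] [Finite R] (S : Subgroup R) [S.Normal]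
  (hC : Subgroup.centralizer (S : Set R) = ⊥) {x t : R} (hx : orderOf x = r ^ k) (ht : orderOf t = H823.O8S.mt (p ^ a))
  (hxt : x * t = t * x)

include hC hx ht hxt in
/-- **(O5)** `PSL₂(q³)`: `x` is the product of two conjugates of `t²` -/
theorem psl2_conj_weak (hK : Fintype.card K = p ^ (3 * a)) (h : RW p a r k)
    (e : S ≃* Matrix.ProjectiveSpecialLinearGroup (Fin 2) K) :
    ∃ t₁ t₂ : R, IsConj (t ^ 2) t₁ ∧ IsConj (t ^ 2) t₂ ∧ t₁ * t₂ = x := by
  have hp : Fact p.Prime := ⟨h.hp⟩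
  have hch : CharP K p := by
    obtain ⟨p', hp'⟩ := CharP.exists K
    obtain ⟨n, hpp, hn⟩ := FiniteField.card K p'
    have h1 : p' ∣ p ^ (3 * a) := by
      rw [← hK, hn]
      exact dvd_pow_self p' n.ne_zero
    have h2 : p' = p := (Nat.prime_dvd_prime_iff_eq hpp h.hp).1 (hpp.dvd_of_dvd_pow h1)
    rw [← h2]
    exact hp'
  have hrp : r.Prime := h.prim.prime
  have ha := h.ha
  have hk : k ≠ 0 := by
    have := h.hk
    omega
  have hpr : ¬ r ∣ p := h.prim.not_dvd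
  have hr6 : 6 * a ∣ r - 1 := by
    have h1 : r ∣ p ^ (r - 1) - 1 := by
      have : Fact r.Prime := ⟨hrp⟩
      have h2 : (p : ZMod r) ≠ 0 := by
        rw [Ne, ZMod.natCast_eq_zero_iff]
        exact hpr
      have h3 := ZMod.pow_card_sub_one_eq_one h2
      rw [← ZMod.natCast_eq_zero_iff, Nat.cast_sub (Nat.one_le_pow _ _ h.hp.pos)]
      push_cast
      rw [h3, sub_self]
    exact (h.prim.dvd_iff _).1 h1
  have hr7 : 7 ≤ r := by
    have h2 := hrp.two_le
    have h3 : 6 * a ≤ r - 1 := Nat.le_of_dvd (by omega) hr6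
    omega
  have hcop : Nat.Coprime (r ^ k) p := Nat.Coprime.pow_left _ ((Nat.Prime.coprime_iff_not_dvd hrp).2 hpr)
  have hodd : Odd (r ^ k) := (hrp.odd_of_ne_two (by omega)).pow
  -- `r` does not divide `6 a`
  have h6 : Nat.Coprime (r ^ k) (3 * a * 2) := by
    refine Nat.Coprime.pow_left _ ((Nat.Prime.coprime_iff_not_dvd hrp).2 ?_)
    intro hd
    have h3 : 6 * a ≤ r - 1 := Nat.le_of_dvd (by omega) hr6
    have h4 : r ≤ 3 * a * 2 := Nat.le_of_dvd (by omega) hd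
    omega
  -- every element of `R`, to the power `6 a`, is in `S`
  have hmem : ∀ g : R, g ^ (3 * a * 2) ∈ S := by
    intro g
    obtain ⟨A, σ, hA⟩ := surj_two p (act S e g)
    obtain ⟨B, hB⟩ := pow_cj_fld A σ (3 * a)
    rw [sigma_pow hK, map_one, mul_one] at hB
    obtain ⟨D, hD⟩ := sq_mem hC e (g := g ^ (3 * a)) (A := B) (by rw [map_pow, hA, ← map_pow, hB])
    rw [pow_mul, hD]
    exact (e.symm (pr D)).2
  have hxS : x ∈ S := by
    have h1 : Nat.Coprime (orderOf x) (3 * a * 2) := by rw [hx]; exact h6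
    obtain ⟨u, hu⟩ := exists_pow_eq_self_of_coprime h1.symm
    rw [← hu]
    exact pow_mem (hmem x) u
  -- a lift of `x`
  obtain ⟨X₀, hX₀⟩ := pr_surjective (e ⟨x, hxS⟩)
  have hexp : ∀ m : ℕ, (e ⟨x, hxS⟩) ^ m = e (⟨x, hxS⟩ ^ m) := fun m => (map_pow e _ m).symm
  have hxk : (e ⟨x, hxS⟩) ^ r ^ k = 1 := by
    rw [hexp]
    have h1 : (⟨x, hxS⟩ : S) ^ r ^ k = 1 := Subtype.ext (by
      change x ^ r ^ k = 1
      rw [← hx, pow_orderOf_eq_one])
    rw [h1, map_one]
  have hX₀2 : (X₀ ^ r ^ k) ^ 2 = 1 := by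
    have h1 : pr (X₀ ^ r ^ k) = 1 := by rw [map_pow, hX₀, hxk]
    rcases (Cfsg.Agent.ClassicalGeometry.PSLTorus.pr_eq_one_iff _).1 h1 with h2 | h2
    · rw [h2, one_pow]
    · rw [h2, neg_one_sq]
  set X : SL(2, K) := X₀ ^ (r ^ k + 1) with hXdef
  have hXpr : pr X = e ⟨x, hxS⟩ := by
    rw [hXdef, map_pow, hX₀, pow_succ, hxk, one_mul]
  have hXk : X ^ r ^ k = 1 := by
    obtain ⟨m, hm⟩ := hodd
    have h1 : (r ^ k + 1) * r ^ k = r ^ k * 2 * (m + 1) := by
      rw [show r ^ k + 1 = 2 * (m + 1) by omega]; ring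
    rw [hXdef, ← pow_mul, h1, pow_mul, pow_mul, hX₀2, one_pow]
  have hXtr : tr X ^ 2 ≠ 4 := by
    intro h1
    have h2 := pow_of_trace (p := p) X h1
    rw [hXpr, hexp, ← map_one e] at h2
    have h3 : x ^ p = 1 := congrArg Subtype.val (e.injective h2)
    have h4 : r ^ k ∣ p := by rw [← hx]; exact orderOf_dvd_of_pow_eq_one h3
    exact hpr ((dvd_pow_self r hk).trans h4)
  -- `t` acts linearly
  obtain ⟨A, σ, hA⟩ := surj_two p (act S e t)
  have htx : act S e t (pr X) = pr X := by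
    rw [hXpr, act_apply]
    congr 1
    apply Subtype.ext
    rw [MulAut.conjNormal_apply]
    change t * x * t⁻¹ = x
    rw [← hxt, mul_inv_cancel_right]
  rw [hA, lift_pr] at htx
  have hfix : (cj A * fld σ : MulAut SL(2, K)) X = X := by
    rcases (Cfsg.Agent.ClassicalGeometry.PSLTorus.pr_eq_iff _ _).1 htx with h1 | h1
    · exact h1
    · have h2 : ((cj A * fld σ : MulAut SL(2, K)) X) ^ r ^ k = 1 := by rw [← map_pow, hXk, map_one]
      rw [h1, hodd.neg_pow, hXk] at h2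
      rw [h1, ← neg_one_mul, h2, one_mul]
  have hσtr : σ (tr X) = tr X := by
    have h1 := congrArg tr hfix
    rw [MulAut.mul_apply, tr_cj, tr_fld] at h1
    exact h1
  obtain ⟨b, hb⟩ := exists_frob (p := p) σ
  have hσ : σ = 1 := eq_one_of_trace hK h.prim hXtr hXk hb hσtr
  rw [hσ, map_one, mul_one] at hA
  obtain ⟨D, hD⟩ := sq_mem hC e hA
  have hDtr : tr D ^ 2 ≠ 4 := by
    intro h1
    have h2 := pow_of_trace (p := p) D h1
    have h3 : t ^ (2 * p) = 1 := by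
      rw [pow_mul, hD]
      have h4 : (e.symm (pr D)) ^ p = 1 := by rw [← map_pow, h2, map_one]
      exact congrArg Subtype.val h4
    have h4 : H823.O8S.mt (p ^ a) ∣ 2 * p := by rw [← ht]; exact orderOf_dvd_of_pow_eq_one h3
    have h5 : Nat.Coprime (H823.O8S.mt (p ^ a)) p := by
      refine Nat.Coprime.coprime_dvd_left (mt_dvd _ (by have := h.four; omega)) ?_
      rw [Nat.coprime_comm, Nat.Prime.coprime_iff_not_dvd h.hp]
      intro hd
      have h6 : p ∣ 1 := (Nat.dvd_add_right (dvd_pow_self p (by omega : a ≠ 0))).1 hd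
      exact h.hp.one_lt.ne' (Nat.dvd_one.1 h6)
    have h6 : H823.O8S.mt (p ^ a) ∣ 2 := h5.dvd_of_dvd_mul_right h4
    have h7 := Nat.le_of_dvd (by norm_num) h6
    have h8 := three_le_mt h.four
    omega
  obtain ⟨A', B', hAB, hA', hB'⟩ := macbeath X (tr D) hXtr
  have key : ∀ Z : SL(2, K), tr Z = tr D → IsConj (t ^ 2) ((e.symm (pr Z) : S) : R) := by
    intro Z hZ
    rw [hD]
    have h1 : IsConj D Z := exists_conj D Z hDtr hZ.symm
    have h2 : IsConj (pr D) (pr Z) := MonoidHom.map_isConj pr h1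
    have h3 : IsConj (e.symm (pr D)) (e.symm (pr Z)) := MonoidHom.map_isConj e.symm.toMonoidHom h2
    exact MonoidHom.map_isConj S.subtype h3
  refine ⟨_, _, key A' hA', key B' hB', ?_⟩
  rw [← Subgroup.coe_mul, ← map_mul, ← map_mul, hAB, hXpr, e.symm_apply_apply]

end main

end Cfsg.Agent.H118.O8S
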