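import Cfsg.Agent.H118.O8S.Mono5
import Cfsg.Agent.H118.O8S.Psl2W
import Cfsg.Agent.H911.O8S.Own
import Cfsg.Agent.H466.O8S.SpConj
import Cfsg.Agent.H832.PoSeven.Row
import Cfsg.Agent.H497.Spr.Psu5
import Cfsg.Agent.H9.O5.Ten

/-!
# S3938, `PΩ⁺₈(5)`: the overgroups of `x`, `t` (helper118, from helper823's `residual`, for helper9)
-/

set_option autoImplicit false
set_option linter.unusedSectionVars false

namespace Cfsg.Agent.H118.O8S

open Module QuadraticMap Cfsg Cfsg.Geo Cfsg.Agent.LieClassical.OrthCore Cfsg.Agent.H955 Cfsg.Agent.H954.TSing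
open Cfsg.Agent.LieClassical.OmegaReindex Cfsg.Agent.OrdDiv Cfsg.Agent.H915.LD Cfsg.Agent.H902 Cfsg.Agent.H902.Names
open Cfsg.Agent.H436 Cfsg.Agent.H264.GN Cfsg.Agent.H915.GN Cfsg.Agent.H264.FKS Cfsg.Agent.H823.O8S Cfsg.Agent.H9.O5
open Cfsg.Agent.H951 (fx cm Inv Irr)
open Cfsg.Agent.H884.El
open Cfsg.Agent.H708.O8 (I8 T8)
open scoped MatrixGroups Matrix

variable {F : Type} [Field F] [Fintype F] {x t z : GL I8 F}

/-- the numbers for `q = 5` -/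
theorem rw5 : RW 5 1 7 1 := ⟨by norm_num, le_rfl, by norm_num, Cfsg.Agent.H497.Spr.Psu5.prim5, by norm_num, le_rfl⟩

/-- (Q1) cross characteristic -/
def Cross5 (F : Type) [Field F] [Fintype F] : Prop := ∀ {R : Subgroup (T8 F)} (S : Subgroup R) [S.Normal] (_ : IsSimpleGroup S)
    (_ : ¬ IsMulCommutative S) (_ : Subgroup.centralizer (S : Set R) = ⊥) {P : Subgroup (GL I8 F)}
    (_ : IsResidualCore (pre (quadFormPlus 4 F) R) P) (_ : S ≃* Soc P) (_ : ¬ IsLieTypeChar 5 (Soc P))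
    {x t : R} (_ : orderOf x = 7) (_ : orderOf t = 3) (_ : x * t = t * x), Nonempty (S ≃* alternatingGroup (Fin 10))

set_option maxHeartbeats 1000000 in
/-- **the residual class**, `q = 5` -/
theorem residual5 (hF5 : Nat.card F = 5) (w : Wit x t 7) (cross : Cross5 F)
    {K : Subgroup (T8 F)} (hx : x ∈ pre (quadFormPlus 4 F) K) (ht : t ∈ pre (quadFormPlus 4 F) K) (hK : K ≠ ⊤)
    (hres : InOrthogonalResidualClass (pre (quadFormPlus 4 F) K)) : T10 K := by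
  have h := rw5
  have hF : Nat.card F = 5 ^ 1 := by rw [hF5, pow_one]
  have hmt : mt (5 ^ 1) = 3 := by decide
  obtain ⟨z, b⟩ := base_w hF h w
  obtain ⟨P, hP, -⟩ := hres
  obtain ⟨S, hSn, hS, hna, hC, ⟨e⟩⟩ := exists_res_plus (n := 4) le_rfl hP
  obtain ⟨yx, hyx, hyxK⟩ := exists_lift hx
  obtain ⟨yt, hyt, hytK⟩ := exists_lift ht
  let X : K := ⟨mk8 F yx, hyxK⟩
  let T : K := ⟨mk8 F yt, hytK⟩
  have hbot : fx (lin x) ≠ ⊥ := b.irr2.1
  have hbot' : fx (lin t) ≠ ⊥ := by rw [b.tV]; exact b.irr6.1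
  have hX : orderOf X = 7 := by
    rw [← w.x_ord, ← Subgroup.orderOf_coe, ← hyx]
    exact order_mk (by rw [hyx]; exact hbot)
  have hT : orderOf T = 3 := by
    rw [← hmt, ← hF, ← w.t_ord, ← Subgroup.orderOf_coe, ← hyt]
    exact order_mk (by rw [hyt]; exact hbot')
  have hinj : Function.Injective (gl8 F) := (isometryGroup F (quadFormPlus 4 F)).subtype_injective.comp
    (Omega F (quadFormPlus 4 F)).subtype_injective
  have hXT : X * T = T * X := by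
    apply Subtype.ext
    change mk8 F yx * mk8 F yt = mk8 F yt * mk8 F yx
    rw [← map_mul, ← map_mul]
    congr 1
    apply hinj
    rw [map_mul, map_mul, hyx, hyt, w.comm]
  -- lifts of conjugates
  have hlift : ∀ (n : ℕ) {T' : K}, IsConj (T ^ n) T' → ∃ y g : Omega F (quadFormPlus 4 F), mk8 F y = T' ∧
      gl8 F y = gl8 F g * t ^ n * (gl8 F g)⁻¹ := by
    intro n T' hc
    obtain ⟨C, hC⟩ := isConj_iff.1 hc
    obtain ⟨g, hg⟩ := QuotientGroup.mk'_surjective (Subgroup.center (Omega F (quadFormPlus 4 F))) (C : T8 F)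
    refine ⟨g * yt ^ n * g⁻¹, g, ?_, ?_⟩
    · rw [← hC]
      change mk8 F (g * yt ^ n * g⁻¹) = C * (mk8 F yt) ^ n * (C : T8 F)⁻¹
      rw [map_mul, map_mul, map_pow, map_inv]
      change mk8 F g = C at hg
      rw [hg]
    · rw [map_mul, map_mul, map_pow, map_inv, hyt]
  have hcs : ∀ {y : Omega F (quadFormPlus 4 F)} {t' : K}, mk8 F y = t' → T * t' = t' * T →
      ∃ e : F, ∀ v, lin t (lin (gl8 F y) v) = e • lin (gl8 F y) (lin t v) := by
    intro y t' hy hc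
    obtain ⟨e, he⟩ := mk8_eq (y := yt * y) (y' := y * yt) (by
      rw [map_mul, map_mul, hy]
      exact congrArg Subtype.val hc)
    refine ⟨e, fun v => ?_⟩
    have h5 := he v
    rwa [map_mul, map_mul, lin_mul_apply, lin_mul_apply, hyt] at h5
  have hnz : ∀ {y : Omega F (quadFormPlus 4 F)} {t' : K}, mk8 F y = t' → t' ∉ Subgroup.zpowers T →
      gl8 F y ∉ Subgroup.zpowers t := by
    intro y t' hy hn hz
    apply hn
    obtain ⟨i, hi⟩ := Subgroup.mem_zpowers_iff.1 hz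
    refine Subgroup.mem_zpowers_iff.2 ⟨i, Subtype.ext ?_⟩
    rw [← hy]
    change (mk8 F yt) ^ i = _
    rw [← map_zpow]
    congr 1
    apply hinj
    rw [map_zpow, hyt, hi]
  -- three conjugates
  have k3 : (∃ t₁ t₂ t₃ : K, IsConj T t₁ ∧ IsConj T t₂ ∧ IsConj T t₃ ∧ T * t₁ = t₁ * T ∧ T * t₂ = t₂ * T ∧
      T * t₃ = t₃ * T ∧ t₁ ∉ Subgroup.zpowers T ∧ t₂ ∉ Subgroup.zpowers T ∧ t₃ ∉ Subgroup.zpowers T ∧
      t₁ * t₂ * t₃ = T) → False := by
    rintro ⟨t₁, t₂, t₃, h1, h2, h3, c1, c2, c3, n1, n2, n3, hm⟩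
    obtain ⟨y₁, g₁, m1, d1⟩ := hlift 1 (T' := t₁) (by rw [pow_one]; exact h1)
    obtain ⟨y₂, g₂, m2, d2⟩ := hlift 1 (T' := t₂) (by rw [pow_one]; exact h2)
    obtain ⟨y₃, g₃, m3, d3⟩ := hlift 1 (T' := t₃) (by rw [pow_one]; exact h3)
    rw [pow_one] at d1 d2 d3
    obtain ⟨e1, k1⟩ := hcs m1 c1
    obtain ⟨e2, k2⟩ := hcs m2 c2
    obtain ⟨e3, k3⟩ := hcs m3 c3
    obtain ⟨e, he⟩ := mk8_eq (y := y₁ * y₂ * y₃) (y' := yt) (by
      rw [map_mul, map_mul, m1, m2, m3]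
      exact congrArg Subtype.val hm)
    refine kill3 hF h w b d1 d2 d3 k1 k2 k3 (e := e) (fun v => ?_) (hnz m1 n1) (hnz m2 n2) (hnz m3 n3)
    have h5 := he v
    rwa [map_mul, map_mul, lin_mul_apply, lin_mul_apply, hyt] at h5
  have h7K : 7 ∣ Nat.card K := by
    have h1 : orderOf X ∣ Nat.card K := orderOf_dvd_natCard X
    rwa [hX] at h1
  have hX' : orderOf X = 7 ^ 1 := by rw [hX, pow_one]
  have hT' : orderOf T = mt (5 ^ 1) := by rw [hT, hmt]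
  -- two conjugates of `t`, `PSU₃(5)`
  have k2 : (∃ t₁ t₂ : K, IsConj T t₁ ∧ IsConj T t₂ ∧ T * t₁ = t₁ * T ∧ T * t₂ = t₂ * T ∧
      t₁ ∉ Subgroup.zpowers T ∧ t₂ ∉ Subgroup.zpowers T ∧ t₁ * t₂ = T⁻¹) → False := by
    rintro ⟨t₁, t₂, h1, h2, c1, c2, n1, n2, hm⟩
    obtain ⟨y₁, g₁, m1, d1⟩ := hlift 1 (T' := t₁) (by rw [pow_one]; exact h1)
    obtain ⟨y₂, g₂, m2, d2⟩ := hlift 1 (T' := t₂) (by rw [pow_one]; exact h2)
    rw [pow_one] at d1 d2
    obtain ⟨e1, k1⟩ := hcs m1 c1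
    obtain ⟨e2, k2⟩ := hcs m2 c2
    obtain ⟨e, he⟩ := mk8_eq (y := y₁ * y₂) (y' := yt⁻¹) (by
      rw [map_mul, m1, m2, map_inv]
      exact congrArg Subtype.val hm)
    have key : ∀ {g s : GL I8 F} {e : F}, s = g * t * g⁻¹ → (∀ v, lin t (lin s v) = e • lin s (lin t v)) →
        s ∉ Subgroup.zpowers t → ∀ v ∈ fx (lin x), lin s v = v := by
      intro g s e hs hc hn
      rcases conj_cases hF h w b hs (comm_of_scalar b hc) with h1 | h1 | h1
      · exact absurd (h1 ▸ Subgroup.mem_zpowers t) hn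
      · exact absurd (h1 ▸ Subgroup.inv_mem _ (Subgroup.mem_zpowers t)) hn
      · exact h1
    have l1 := key d1 k1 (hnz m1 n1)
    have l2 := key d2 k2 (hnz m2 n2)
    refine b.no_eig e fun v hv => ?_
    have h5 := he (lin t v)
    have h6 : lin t v ∈ fx (lin x) := b.irr2.2.1 v hv
    rwa [map_mul, lin_mul_apply, l2 _ h6, l1 _ h6, map_inv, hyt, lin_inv_apply] at h5
  by_cases hL : IsLieTypeChar 5 (Soc P)
  · exfalso
    rcases H911.O8S.own hF h hK S hS hna hC hP e hL h7K with ⟨E, i1, i2, hE, ⟨f⟩⟩ | hN | ⟨E, i1, i2, hE, ⟨f⟩⟩ |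
      ⟨hp2, E, i1, i2, hE, ⟨f⟩⟩
    · obtain ⟨t₁, t₂, h1, h2, hm⟩ := psl2_conj_weak S hC hX' hT' hXT hE h f
      obtain ⟨y₁, g₁, m1, d1⟩ := hlift 2 h1
      obtain ⟨y₂, g₂, m2, d2⟩ := hlift 2 h2
      obtain ⟨e, he⟩ := mk8_eq (y := y₁ * y₂) (y' := yx) (by
        rw [map_mul, m1, m2]
        exact congrArg Subtype.val hm)
      refine kill2 b d1 d2 (e := e) fun v => ?_
      have h5 := he v
      rwa [map_mul, lin_mul_apply, hyx] at h5
    · exact k2 (H497.Spr.Psu5.psu5_conj S hC hX hT hXT hN)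
    · exact k3 (H466.O8S.sp6_conj_w S hC hX' hT' hXT hE h f)
    · exact k3 (H832.PoSeven.po7_conj_w S hC hX' hT' hXT hp2 hE h f)
  · obtain ⟨f⟩ := cross S hS hna hC hP e hL hX hT hXT
    exact t10_of S hC f

/-- **(Q4) the overgroups of `x`, `t`**, `q = 5` -/
theorem overgroups5_of {J J' : Module.End F (I8 → F)} {c d : F} (hF : Nat.card F = 5) (cross : Cross5 F) (w : Wit x t 7)
    (f : Two x t J J' c d) {K : Subgroup (T8 F)} (hx : x ∈ pre (quadFormPlus 4 F) K)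
    (ht : t ∈ pre (quadFormPlus 4 F) K) (hK : K ≠ ⊤) : K ≤ U₁ x ∨ K ≤ U₂ J c ∨ K ≤ U₂ J' c ∨ T10 K := by
  have hF' : Nat.card F = 5 ^ 1 := by rw [hF, pow_one]
  have w' : Wit x t (7 ^ 1) := w
  obtain ⟨z, b⟩ := base_w hF' rw5 w'
  rcases geo_row0 hF' rw5 b f (H884.El.pre_le (Q := quadFormPlus 4 F) (M := K)) hx ht with
    h1 | h1 | h1 | h1 | ⟨-, h1⟩ | ⟨-, h1⟩
  · exact Or.inl (le_tp h1)
  · exact Or.inr (Or.inl (le_tp h1))
  · exact Or.inr (Or.inr (Or.inl (le_tp h1)))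
  · exact Or.inr (Or.inr (Or.inr (residual5 hF w cross hx ht hK h1)))
  · exact (mono5 hF b w.x_ord hx ht w.comm h1).elim
  · exact (symp5 hF b (by rw [w.t_ord, hF]; decide) ht h1).elim

end Cfsg.Agent.H118.O8S
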