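import Cfsg.Agent.H118.O8S.Mac
import Cfsg.Agent.H823.O8S.Defs

/-!
# S3938, `PΩ⁺₈(q)`, (O5): the socle `PSL₂(q³)` (helper118)
-/

set_option autoImplicit false

namespace Cfsg.Agent.H118.O8S

open Matrix Cfsg.Agent.H823.O8S
open scoped MatrixGroups
open Cfsg.Agent.Ree.PSLTori (tr tr_mul_comm tr_conj)
open Cfsg.Agent.ClassicalGeometry.AutPSL.Root (pr pr_surjective)
open Cfsg.Agent.ClassicalGeometry.AutPSL.Auto (cj fld lift lift_pr coe_cj coe_fld_apply)
open Cfsg.Agent.ClassicalGeometry.AutPSL.Main (surj_two)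

section aut

variable {K : Type*} [Field K]

theorem fld_mul_cj (σ : K ≃+* K) (C : GL (Fin 2) K) :
    (fld σ * cj C : MulAut SL(2, K)) = cj (Matrix.GeneralLinearGroup.map (σ : K →+* K) C) * fld σ := by
  apply MulEquiv.ext
  intro g
  apply Subtype.ext
  change (((C : Matrix (Fin 2) (Fin 2) K) * g.1 * ((C⁻¹ : GL (Fin 2) K) : Matrix (Fin 2) (Fin 2) K))).map σ =
    ((C : Matrix (Fin 2) (Fin 2) K).map σ) * (g.1.map σ) * ((C⁻¹ : GL (Fin 2) K) : Matrix (Fin 2) (Fin 2) K).map σ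
  rw [Matrix.map_mul, Matrix.map_mul]

theorem pow_cj_fld (A : GL (Fin 2) K) (σ : K ≃+* K) (m : ℕ) :
    ∃ B : GL (Fin 2) K, (cj A * fld σ : MulAut SL(2, K)) ^ m = cj B * fld (σ ^ m) := by
  induction m with
  | zero => exact ⟨1, by simp⟩
  | succ m ih =>
    obtain ⟨B, hB⟩ := ih
    refine ⟨B * Matrix.GeneralLinearGroup.map ((σ ^ m : K ≃+* K) : K →+* K) A, ?_⟩
    rw [pow_succ, hB, mul_assoc, ← mul_assoc (fld (σ ^ m)), fld_mul_cj, map_mul, pow_succ, map_mul]
    group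

/-- the element of `SL₂` proportional to `A²` -/
theorem exists_sq (A : GL (Fin 2) K) : ∃ D : SL(2, K), ∀ y, cj (A * A) y = D * y * D⁻¹ := by
  have hA : (A : Matrix (Fin 2) (Fin 2) K).det ≠ 0 := (Matrix.isUnit_iff_isUnit_det _).1 A.isUnit |>.ne_zero
  set c : K := ((A : Matrix (Fin 2) (Fin 2) K).det)⁻¹ with hc
  have hdet : (c • ((A : Matrix (Fin 2) (Fin 2) K) * (A : Matrix (Fin 2) (Fin 2) K))).det = 1 := by
    rw [det_smul, det_mul, Fintype.card_fin, hc]
    field_simp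
  let D : SL(2, K) := ⟨c • ((A : Matrix (Fin 2) (Fin 2) K) * (A : Matrix (Fin 2) (Fin 2) K)), hdet⟩
  refine ⟨D, fun y => eq_mul_inv_of_mul_eq ?_⟩
  apply Subtype.ext
  change ((A * A : GL (Fin 2) K) : Matrix (Fin 2) (Fin 2) K) * y.1 *
    (((A * A)⁻¹ : GL (Fin 2) K) : Matrix (Fin 2) (Fin 2) K) *
    (c • ((A : Matrix (Fin 2) (Fin 2) K) * (A : Matrix (Fin 2) (Fin 2) K))) =
    (c • ((A : Matrix (Fin 2) (Fin 2) K) * (A : Matrix (Fin 2) (Fin 2) K))) * y.1
  rw [← Units.val_mul A A, mul_smul_comm, mul_assoc, ← Units.val_mul (A * A)⁻¹ (A * A), inv_mul_cancel, Units.val_one,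
    mul_one, smul_mul_assoc]

theorem tr_fld (σ : K ≃+* K) (g : SL(2, K)) : tr (fld σ g) = σ (tr g) := by
  simp only [tr]
  rw [map_add]
  rfl

theorem tr_cj (A : GL (Fin 2) K) (g : SL(2, K)) : tr (cj A g) = tr g := by
  have h1 : ∀ y : SL(2, K), tr y = (y : Matrix (Fin 2) (Fin 2) K).trace := fun y => by
    rw [Matrix.trace_fin_two]
    rfl
  rw [h1, h1, coe_cj, Matrix.trace_mul_comm, ← mul_assoc, ← Units.val_mul, inv_mul_cancel, Units.val_one, one_mul]

end aut

section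

variable {K : Type*} [Field K] {R : Type*} [Group R] (S : Subgroup R) [S.Normal]

/-- the action of `R` on `PSL₂(K)` -/
def act (e : S ≃* Matrix.ProjectiveSpecialLinearGroup (Fin 2) K) :
    R →* MulAut (Matrix.ProjectiveSpecialLinearGroup (Fin 2) K) :=
  (MulAut.congr e).toMonoidHom.comp MulAut.conjNormal

variable {S}

theorem act_apply (e : S ≃* Matrix.ProjectiveSpecialLinearGroup (Fin 2) K) (g : R) (s : S) :
    act S e g (e s) = e (MulAut.conjNormal g s) := by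
  change e (MulAut.conjNormal g (e.symm (e s))) = _
  rw [e.symm_apply_apply]

theorem act_injective (hC : Subgroup.centralizer (S : Set R) = ⊥)
    (e : S ≃* Matrix.ProjectiveSpecialLinearGroup (Fin 2) K) : Function.Injective (act S e) := by
  rw [injective_iff_map_eq_one]
  intro g hg
  have h1 : g ∈ Subgroup.centralizer (S : Set R) := by
    rw [Subgroup.mem_centralizer_iff]
    intro s hs
    have h2 := act_apply e g ⟨s, hs⟩
    rw [hg, MulAut.one_apply] at h2
    have h3 := congrArg Subtype.val (e.injective h2)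
    rw [MulAut.conjNormal_apply] at h3
    change s = g * s * g⁻¹ at h3
    rw [eq_mul_inv_iff_mul_eq] at h3
    exact h3
  rw [hC] at h1
  exact h1

theorem act_mem (e : S ≃* Matrix.ProjectiveSpecialLinearGroup (Fin 2) K) (y : Matrix.ProjectiveSpecialLinearGroup (Fin 2) K) :
    act S e (e.symm y : S) = MulAut.conj y := by
  apply MulEquiv.ext
  intro z
  obtain ⟨s, rfl⟩ := e.surjective z
  rw [act_apply, MulAut.conj_apply]
  have h1 : MulAut.conjNormal ((e.symm y : S) : R) s = e.symm y * s * (e.symm y)⁻¹ := by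
    apply Subtype.ext
    rw [MulAut.conjNormal_apply]
    rfl
  rw [h1, map_mul, map_mul, map_inv, e.apply_symm_apply]

/-- `g² ∈ S` if `g` acts as an element of `PGL₂(K)`. -/
theorem sq_mem (hC : Subgroup.centralizer (S : Set R) = ⊥)
    (e : S ≃* Matrix.ProjectiveSpecialLinearGroup (Fin 2) K) {g : R} {A : GL (Fin 2) K}
    (hg : act S e g = lift (cj A)) : ∃ D : SL(2, K), g ^ 2 = (e.symm (pr D) : S) := by
  obtain ⟨D, hD⟩ := exists_sq A
  refine ⟨D, act_injective hC e ?_⟩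
  rw [act_mem, map_pow, hg, ← map_pow, ← map_pow, pow_two]
  apply MulEquiv.ext
  intro z
  obtain ⟨y, rfl⟩ := pr_surjective z
  rw [lift_pr, hD, MulAut.conj_apply, map_mul, map_mul, map_inv]

end

/-- the power map of a field automorphism -/
theorem exists_frob {F : Type*} [Field F] [Fintype F] {p : ℕ} [Fact p.Prime] [CharP F p] (σ : F ≃+* F) :
    ∃ i : ℕ, ∀ a, σ a = a ^ p ^ i := by
  let _ : Algebra (ZMod p) F := ZMod.algebra F p
  have hcomm : ∀ r : ZMod p, σ (algebraMap (ZMod p) F r) = algebraMap (ZMod p) F r := by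
    intro r
    obtain ⟨n, rfl⟩ := ZMod.natCast_zmod_surjective r
    rw [map_natCast, map_natCast]
  obtain ⟨i, hi⟩ := (FiniteField.bijective_frobeniusAlgEquivOfAlgebraic_pow (ZMod p) F).2
    (AlgEquiv.ofRingEquiv (f := σ) hcomm)
  refine ⟨i, fun a => ?_⟩
  have h1 := DFunLike.congr_fun hi a
  have h3 : (AlgEquiv.ofRingEquiv (f := σ) hcomm) a = σ a := rfl
  rw [← h3, ← h1]
  have h5 : ∀ j : ℕ, ((FiniteField.frobeniusAlgEquivOfAlgebraic (ZMod p) F) ^ j) a = a ^ p ^ j := by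
    intro j
    induction j with
    | zero => simp
    | succ j ih =>
      rw [pow_succ', AlgEquiv.mul_apply, ih, FiniteField.coe_frobeniusAlgEquivOfAlgebraic]
      simp only [ZMod.card]
      rw [← pow_mul, pow_succ]
  exact h5 _

theorem sigma_pow {F : Type*} [Field F] [Fintype F] {p f : ℕ} [Fact p.Prime] [CharP F p]
    (hF : Fintype.card F = p ^ f) (σ : F ≃+* F) : σ ^ f = 1 := by
  obtain ⟨i, hi⟩ := exists_frob (p := p) σ
  have h1 : ∀ (m : ℕ) (y : F), (σ ^ m) y = y ^ p ^ (i * m) := by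
    intro m
    induction m with
    | zero => intro y; simp
    | succ m ih =>
      intro y
      rw [pow_succ, RingAut.mul_apply, ih, hi, ← pow_mul, ← pow_add]
      congr 2
      ring
  apply RingEquiv.ext
  intro y
  rw [h1, mul_comm, pow_mul, ← hF]
  change _ = y
  clear hi h1
  induction i with
  | zero => rw [pow_zero, pow_one]
  | succ c ih => rw [pow_succ, pow_mul, ih, FiniteField.pow_card]

theorem mt_ge {q : ℕ} (h4 : 4 ≤ q) (h5 : q ≠ 5) : 4 ≤ H823.O8S.mt q := by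
  have hg : Nat.gcd 2 (q - 1) ≤ 2 := Nat.gcd_le_left _ (by norm_num)
  have hg0 : 0 < Nat.gcd 2 (q - 1) := Nat.gcd_pos_of_pos_left _ (by norm_num)
  rcases Nat.lt_or_ge q 7 with h7 | h7
  · obtain rfl | rfl : q = 4 ∨ q = 6 := by omega
    all_goals decide
  · unfold H823.O8S.mt
    rw [Nat.le_div_iff_mul_le hg0]
    omega

theorem mt_dvd (q : ℕ) (hq : 1 ≤ q) : H823.O8S.mt q ∣ q + 1 := by
  unfold H823.O8S.mt
  refine Nat.div_dvd_of_dvd ?_
  have h1 : Nat.gcd 2 (q - 1) ∣ 2 := Nat.gcd_dvd_left _ _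
  have h2 : Nat.gcd 2 (q - 1) ∣ q - 1 := Nat.gcd_dvd_right _ _
  have h3 : q + 1 = (q - 1) + 2 := by omega
  rw [h3]
  exact dvd_add h2 h1

section main

variable {K : Type} [Field K] [Fintype K] {p a r k : ℕ} {R : Type} [Group R] [Finite R] (S : Subgroup R) [S.Normal]
  (hC : Subgroup.centralizer (S : Set R) = ⊥) {x t : R} (hx : orderOf x = r ^ k) (ht : orderOf t = H823.O8S.mt (p ^ a))
  (hxt : x * t = t * x)

include hC hx ht hxt in
/-- **(O5)** `PSL₂(q³)`: `x` is the product of two conjugates of `t²` -/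
theorem psl2_conj (hK : Fintype.card K = p ^ (3 * a)) (h : RK p a r k)
    (e : S ≃* Matrix.ProjectiveSpecialLinearGroup (Fin 2) K) :
    ∃ t₁ t₂ : R, IsConj (t ^ 2) t₁ ∧ IsConj (t ^ 2) t₂ ∧ t₁ * t₂ = x := by
  have hp : Fact p.Prime := ⟨h.hp⟩
  have hch : CharP K p := by
    obtain ⟨p', hp'⟩ := CharP.exists K
    obtain ⟨n, hpp, hn⟩ := FiniteField.card K p'
    have h1 : p' ∣ p ^ (3 * a) := by
      rw [← hK, hn]
      exact dvd_pow_self p' n.ne_zero
    have h2 : p' = p := (Nat.prime_dvd_prime_iff_eq hpp h.hp).1 (hpp.dvd_of_dvd_pow h1)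
    rw [← h2]
    exact hp'
  have hrp : r.Prime := h.prim.prime
  have ha := h.ha
  have hk : k ≠ 0 := by
    rcases h.cases with ⟨-, h1⟩ | ⟨-, h1⟩ <;> omega
  have hr7 : 7 ≤ r := by
    rcases h.cases with ⟨h1, -⟩ | ⟨h1, -⟩ <;> omega
  have hpr : ¬ r ∣ p := h.prim.not_dvd
  have hcop : Nat.Coprime (r ^ k) p := Nat.Coprime.pow_left _ ((Nat.Prime.coprime_iff_not_dvd hrp).2 hpr)
  have hodd : Odd (r ^ k) := (hrp.odd_of_ne_two (by omega)).pow
  -- `r` does not divide `6 a`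
  have h6 : Nat.Coprime (r ^ k) (3 * a * 2) := by
    refine Nat.Coprime.pow_left _ ((Nat.Prime.coprime_iff_not_dvd hrp).2 ?_)
    intro hd
    have h1 : r ∣ p ^ (r - 1) - 1 := by
      have : Fact r.Prime := ⟨hrp⟩
      have h2 : (p : ZMod r) ≠ 0 := by
        rw [Ne, ZMod.natCast_eq_zero_iff]
        exact hpr
      have h3 := ZMod.pow_card_sub_one_eq_one h2
      rw [← ZMod.natCast_eq_zero_iff, Nat.cast_sub (Nat.one_le_pow _ _ h.hp.pos)]
      push_cast
      rw [h3, sub_self]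
    have h2 : 6 * a ∣ r - 1 := (h.prim.dvd_iff _).1 h1
    have h3 : 6 * a ≤ r - 1 := Nat.le_of_dvd (by omega) h2
    have h4 : r ≤ 3 * a * 2 := Nat.le_of_dvd (by omega) hd
    omega
  -- every element of `R`, to the power `6 a`, is in `S`
  have hmem : ∀ g : R, g ^ (3 * a * 2) ∈ S := by
    intro g
    obtain ⟨A, σ, hA⟩ := surj_two p (act S e g)
    obtain ⟨B, hB⟩ := pow_cj_fld A σ (3 * a)
    rw [sigma_pow hK, map_one, mul_one] at hB
    obtain ⟨D, hD⟩ := sq_mem hC e (g := g ^ (3 * a)) (A := B) (by rw [map_pow, hA, ← map_pow, hB])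
    rw [pow_mul, hD]
    exact (e.symm (pr D)).2
  have hxS : x ∈ S := by
    have h1 : Nat.Coprime (orderOf x) (3 * a * 2) := by rw [hx]; exact h6
    obtain ⟨u, hu⟩ := exists_pow_eq_self_of_coprime h1.symm
    rw [← hu]
    exact pow_mem (hmem x) u
  -- a lift of `x`
  obtain ⟨X₀, hX₀⟩ := pr_surjective (e ⟨x, hxS⟩)
  have hexp : ∀ m : ℕ, (e ⟨x, hxS⟩) ^ m = e (⟨x, hxS⟩ ^ m) := fun m => (map_pow e _ m).symm
  have hxk : (e ⟨x, hxS⟩) ^ r ^ k = 1 := by
    rw [hexp]
    have h1 : (⟨x, hxS⟩ : S) ^ r ^ k = 1 := Subtype.ext (by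
      change x ^ r ^ k = 1
      rw [← hx, pow_orderOf_eq_one])
    rw [h1, map_one]
  have hX₀2 : (X₀ ^ r ^ k) ^ 2 = 1 := by
    have h1 : pr (X₀ ^ r ^ k) = 1 := by rw [map_pow, hX₀, hxk]
    rcases (Cfsg.Agent.ClassicalGeometry.PSLTorus.pr_eq_one_iff _).1 h1 with h2 | h2
    · rw [h2, one_pow]
    · rw [h2, neg_one_sq]
  set X : SL(2, K) := X₀ ^ (r ^ k + 1) with hXdef
  have hXpr : pr X = e ⟨x, hxS⟩ := by
    rw [hXdef, map_pow, hX₀, pow_succ, hxk, one_mul]
  have hXk : X ^ r ^ k = 1 := by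
    obtain ⟨m, hm⟩ := hodd
    have h1 : (r ^ k + 1) * r ^ k = r ^ k * 2 * (m + 1) := by
      rw [show r ^ k + 1 = 2 * (m + 1) by omega]; ring
    rw [hXdef, ← pow_mul, h1, pow_mul, pow_mul, hX₀2, one_pow]
  have hXtr : tr X ^ 2 ≠ 4 := by
    intro h1
    have h2 := pow_of_trace (p := p) X h1
    rw [hXpr, hexp, ← map_one e] at h2
    have h3 : x ^ p = 1 := congrArg Subtype.val (e.injective h2)
    have h4 : r ^ k ∣ p := by rw [← hx]; exact orderOf_dvd_of_pow_eq_one h3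
    exact hpr ((dvd_pow_self r hk).trans h4)
  -- `t` acts linearly
  obtain ⟨A, σ, hA⟩ := surj_two p (act S e t)
  have htx : act S e t (pr X) = pr X := by
    rw [hXpr, act_apply]
    congr 1
    apply Subtype.ext
    rw [MulAut.conjNormal_apply]
    change t * x * t⁻¹ = x
    rw [← hxt, mul_inv_cancel_right]
  rw [hA, lift_pr] at htx
  have hfix : (cj A * fld σ : MulAut SL(2, K)) X = X := by
    rcases (Cfsg.Agent.ClassicalGeometry.PSLTorus.pr_eq_iff _ _).1 htx with h1 | h1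
    · exact h1
    · have h2 : ((cj A * fld σ : MulAut SL(2, K)) X) ^ r ^ k = 1 := by rw [← map_pow, hXk, map_one]
      rw [h1, hodd.neg_pow, hXk] at h2
      rw [h1, ← neg_one_mul, h2, one_mul]
  have hσtr : σ (tr X) = tr X := by
    have h1 := congrArg tr hfix
    rw [MulAut.mul_apply, tr_cj, tr_fld] at h1
    exact h1
  obtain ⟨b, hb⟩ := exists_frob (p := p) σ
  have hσ : σ = 1 := eq_one_of_trace hK h.prim hXtr hXk hb hσtr
  rw [hσ, map_one, mul_one] at hA
  obtain ⟨D, hD⟩ := sq_mem hC e hA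
  have hDtr : tr D ^ 2 ≠ 4 := by
    intro h1
    have h2 := pow_of_trace (p := p) D h1
    have h3 : t ^ (2 * p) = 1 := by
      rw [pow_mul, hD]
      have h4 : (e.symm (pr D)) ^ p = 1 := by rw [← map_pow, h2, map_one]
      exact congrArg Subtype.val h4
    have h4 : H823.O8S.mt (p ^ a) ∣ 2 * p := by rw [← ht]; exact orderOf_dvd_of_pow_eq_one h3
    have h5 : Nat.Coprime (H823.O8S.mt (p ^ a)) p := by
      refine Nat.Coprime.coprime_dvd_left (mt_dvd _ (by have := h.four; omega)) ?_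
      rw [Nat.coprime_comm, Nat.Prime.coprime_iff_not_dvd h.hp]
      intro hd
      have h6 : p ∣ 1 := (Nat.dvd_add_right (dvd_pow_self p (by omega : a ≠ 0))).1 hd
      exact h.hp.one_lt.ne' (Nat.dvd_one.1 h6)
    have h6 : H823.O8S.mt (p ^ a) ∣ 2 := h5.dvd_of_dvd_mul_right h4
    have h7 := Nat.le_of_dvd (by norm_num) h6
    have h8 := mt_ge h.four h.five
    omega
  obtain ⟨A', B', hAB, hA', hB'⟩ := macbeath X (tr D) hXtr
  have key : ∀ Z : SL(2, K), tr Z = tr D → IsConj (t ^ 2) ((e.symm (pr Z) : S) : R) := by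
    intro Z hZ
    rw [hD]
    have h1 : IsConj D Z := exists_conj D Z hDtr hZ.symm
    have h2 : IsConj (pr D) (pr Z) := MonoidHom.map_isConj pr h1
    have h3 : IsConj (e.symm (pr D)) (e.symm (pr Z)) := MonoidHom.map_isConj e.symm.toMonoidHom h2
    exact MonoidHom.map_isConj S.subtype h3
  refine ⟨_, _, key A' hA', key B' hB', ?_⟩
  rw [← Subgroup.coe_mul, ← map_mul, ← map_mul, hAB, hXpr, e.symm_apply_apply]

end main

end Cfsg.Agent.H118.O8S
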